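import Groth.Agent.Lib.CechFree.Resolution
import Groth.Prelude.Def_CohCx
import Groth.Agent.Lib.SheafCoh.TotallyAcyclic
import Mathlib.CategoryTheory.Limits.Preserves.Shapes.Pullbacks
import Mathlib.Algebra.Homology.DerivedCategory.Ext.ExactSequences
import Mathlib.Algebra.Homology.DerivedCategory.Ext.EnoughInjectives

/-! # Totally acyclic sheaves and Čech complexes of epimorphisms of sheaves of sets -/

universe w v u

open CategoryTheory CategoryTheory.Limits Opposite AlgebraicTopology Abelian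

namespace GrothLib.CechFree

section Abstract

variable {A : Type u} [Category.{v} A] [Abelian A] [HasExt.{w} A]

theorem subsingleton_ext_of_shortExact₁ {S : ShortComplex A} (hS : S.ShortExact) (F : A)
    (h₂ : ∀ p, Subsingleton (Ext S.X₂ F (p + 1))) (h₃ : ∀ p, Subsingleton (Ext S.X₃ F (p + 1))) (p : ℕ) :
    Subsingleton (Ext S.X₁ F (p + 1)) := by
  refine subsingleton_of_forall_eq 0 fun x => ?_
  obtain ⟨y, rfl⟩ := Ext.contravariant_sequence_exact₁ hS F x (n₁ := p + 2) (by omega)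
    (Subsingleton.elim (h := h₃ (p + 1)) _ _)
  rw [Subsingleton.elim (h := h₂ p) y 0, Ext.comp_zero]

theorem exists_extend_of_shortExact {S : ShortComplex A} (hS : S.ShortExact) (F : A)
    (h₃ : Subsingleton (Ext S.X₃ F 1)) (φ : S.X₁ ⟶ F) : ∃ χ : S.X₂ ⟶ F, S.f ≫ χ = φ := by
  obtain ⟨y, hy⟩ := Ext.contravariant_sequence_exact₁ hS F (Ext.mk₀ φ) (n₁ := 1) (by omega)
    (Subsingleton.elim _ _)
  obtain ⟨χ, rfl⟩ := (Ext.mk₀_bijective _ _).2 y
  rw [Ext.mk₀_comp_mk₀] at hy
  exact ⟨χ, (Ext.mk₀_bijective _ _).1 hy⟩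

variable (K : ChainComplex A ℕ)

/-- `0 → opcycles (n+1) → X n → opcycles n → 0` -/
noncomputable def opcyclesSeq (n : ℕ) : ShortComplex A :=
  ShortComplex.mk (K.fromOpcycles (n + 1) n) (K.pOpcycles n) (by
    rw [← cancel_epi (K.pOpcycles (n + 1)), HomologicalComplex.p_fromOpcycles_assoc,
      HomologicalComplex.d_pOpcycles, comp_zero])

theorem opcyclesSeq_shortExact (n : ℕ) (h : K.ExactAt (n + 1)) : (opcyclesSeq K n).ShortExact := by
  have : Mono (opcyclesSeq K n).f := by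
    refine Preadditive.mono_of_kernel_zero ?_
    have hk := K.homologyIsKernel (n + 1) n (ChainComplex.next_nat_succ n)
    rw [← (IsLimit.conePointUniqueUpToIso (kernelIsKernel _) hk).hom_inv_id_assoc
      (kernel.ι (opcyclesSeq K n).f)]
    have : IsZero (K.homology (n + 1)) := h.isZero_homology
    rw [show (IsLimit.conePointUniqueUpToIso (kernelIsKernel _) hk).hom = 0 from this.eq_of_tgt _ _,
      zero_comp]
    rfl
  have hepi : Epi (opcyclesSeq K n).g := inferInstanceAs (Epi (K.pOpcycles n))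
  refine ⟨ShortComplex.exact_of_g_is_cokernel _ ?_⟩
  refine CokernelCofork.IsColimit.ofπ _ _ (fun k hk => K.descOpcycles k (n + 1) (by simp) ?_)
    (fun k hk => K.p_descOpcycles _ _ _ _) (fun k hk m hm => ?_)
  · rw [← K.p_fromOpcycles (n + 1) n, Category.assoc]
    change _ ≫ (opcyclesSeq K n).f ≫ k = 0
    rw [hk, comp_zero]
  · exact (cancel_epi (opcyclesSeq K n).g).1 (hm.trans (K.p_descOpcycles _ _ _ _).symm)

variable (F : A) (hK : ∀ n, K.ExactAt (n + 1)) (hP : ∀ n p, Subsingleton (Ext (K.X n) F (p + 1)))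
  (hX : ∀ p, Subsingleton (Ext (K.opcycles 0) F (p + 1)))

include hK hP hX in
theorem subsingleton_ext_opcycles (n p : ℕ) : Subsingleton (Ext (K.opcycles n) F (p + 1)) := by
  induction n generalizing p with
  | zero => exact hX p
  | succ n ih =>
    exact subsingleton_ext_of_shortExact₁ (opcyclesSeq_shortExact K n (hK n)) F (hP n) ih p

include hK hP hX in
theorem exists_eq_d_comp (q : ℕ) (φ : K.X (q + 1) ⟶ F) (hφ : K.d (q + 2) (q + 1) ≫ φ = 0) :
    ∃ χ : K.X q ⟶ F, φ = K.d (q + 1) q ≫ χ := by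
  obtain ⟨χ, hχ⟩ := exists_extend_of_shortExact (opcyclesSeq_shortExact K q (hK q)) F
    (subsingleton_ext_opcycles K F hK hP hX q 0) (K.descOpcycles φ (q + 2) (by simp) hφ)
  refine ⟨χ, ?_⟩
  rw [← K.p_fromOpcycles (q + 1) q, Category.assoc]
  exact ((congrArg (_ ≫ ·) hχ).trans (K.p_descOpcycles _ _ _ _)).symm

omit [HasExt.{w} A] in
theorem isIso_opcyclesMap {X : A} (ε : K ⟶ (ChainComplex.single₀ A).obj X) [QuasiIso ε] :
    IsIso (HomologicalComplex.opcyclesMap ε 0) := by
  have h1 := K.isIso_homologyι 0 0 (by simp) (K.shape _ _ (by simp))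
  have h2 := ((ChainComplex.single₀ A).obj X).isIso_homologyι 0 0 (by simp)
    (((ChainComplex.single₀ A).obj X).shape _ _ (by simp))
  have h3 : IsIso (HomologicalComplex.homologyMap ε 0) :=
    (quasiIsoAt_iff_isIso_homologyMap ε 0).1 inferInstance
  have h := HomologicalComplex.homologyι_naturality ε 0
  have : IsIso (K.homologyι 0 ≫ HomologicalComplex.opcyclesMap ε 0) := by
    rw [← h]; infer_instance
  exact IsIso.of_isIso_comp_left (K.homologyι 0) _

/-- the zeroth opcycles of a resolution -/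
noncomputable def opcyclesZeroIso {X : A} (ε : K ⟶ (ChainComplex.single₀ A).obj X) [QuasiIso ε] :
    K.opcycles 0 ≅ X :=
  haveI := isIso_opcyclesMap K ε
  asIso (HomologicalComplex.opcyclesMap ε 0) ≪≫ (HomologicalComplex.singleObjOpcyclesSelfIso _ _ _).symm

omit [HasExt.{w} A] in
theorem pOpcycles_opcyclesZeroIso {X : A} (ε : K ⟶ (ChainComplex.single₀ A).obj X) [QuasiIso ε] :
    K.pOpcycles 0 ≫ (opcyclesZeroIso K ε).hom =
      ε.f 0 ≫ (HomologicalComplex.singleObjXSelf (ComplexShape.down ℕ) 0 X).hom := by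
  simp only [opcyclesZeroIso, Iso.trans_hom, asIso_hom, Iso.symm_hom]
  rw [← Category.assoc, HomologicalComplex.p_opcyclesMap, Category.assoc]
  exact congrArg (ε.f 0 ≫ ·) (HomologicalComplex.pOpcycles_singleObjOpcyclesSelfIso_inv _ _ _)

omit [HasExt.{w} A] in
theorem exactAt_of_resolution {X : A} (ε : K ⟶ (ChainComplex.single₀ A).obj X) [QuasiIso ε] (n : ℕ) :
    K.ExactAt (n + 1) :=
  (quasiIsoAt_iff_exactAt' ε (n + 1) (ChainComplex.exactAt_succ_single_obj X n)).1 inferInstance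

end Abstract

section Sheaf

variable {C : Type u} [SmallCategory C] {J : GrothendieckTopology C}

/-- free abelian sheaf on a sheaf of sets -/
noncomputable abbrev free (J : GrothendieckTopology C) : Sheaf J (Type u) ⥤ Sheaf J AddCommGrpCat.{u} :=
  Sheaf.composeAndSheafify J AddCommGrpCat.free.{u}

noncomputable abbrev freeNerve {K' K : Sheaf J (Type u)} (f : K' ⟶ K) :
    SimplicialObject.Augmented (Sheaf J AddCommGrpCat.{u}) :=
  ((SimplicialObject.Augmented.whiskering _ _).obj (free J)).obj (Arrow.mk f).augmentedCechNerve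

noncomputable abbrev freeCx {K' K : Sheaf J (Type u)} (f : K' ⟶ K) :
    ChainComplex (Sheaf J AddCommGrpCat.{u}) ℕ :=
  AlternatingFaceMapComplex.obj (SimplicialObject.Augmented.drop.obj (freeNerve f))

/-- The Čech complexes of epimorphisms are exact in positive degrees. -/
def CechVanish (F : Sheaf J AddCommGrpCat.{u}) : Prop :=
  ∀ (K' K : Sheaf J (Type u)) (f : K' ⟶ K), Epi f → ∀ (q : ℕ) (φ : (freeCx f).X (q + 1) ⟶ F),
    (freeCx f).d (q + 2) (q + 1) ≫ φ = 0 → ∃ χ, φ = (freeCx f).d (q + 1) q ≫ χ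

theorem coface_d (X : CosimplicialObject AddCommGrpCat.{u}) (n : ℕ) :
    (AlternatingCofaceMapComplex.obj X).d n (n + 1) = AlternatingCofaceMapComplex.objD X n := by
  simp [AlternatingCofaceMapComplex.obj]

theorem cechNerveCx_d (F : Sheaf J AddCommGrpCat.{u}) {K' K : Sheaf J (Type u)} (f : K' ⟶ K) (n : ℕ)
    (φ : (freeCx f).X n ⟶ F) :
    (CohCx.cechNerveCx F f).d n (n + 1) φ = ((freeCx f).d (n + 1) n ≫ φ : (freeCx f).X (n + 1) ⟶ F) := by
  have hd : (CohCx.cechNerveCx F f).d n (n + 1) = AlternatingCofaceMapComplex.objD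
      ((Arrow.mk f).cechNerve.rightOp ⋙ CohCx.HK0Functor J F) n :=
    coface_d _ n
  rw [hd, AlternatingFaceMapComplex.obj_d_eq, Preadditive.sum_comp]
  refine (map_sum (AddMonoidHom.mk' (fun g : (CohCx.cechNerveCx F f).X n ⟶ (CohCx.cechNerveCx F f).X (n + 1) =>
    (g φ : (CohCx.cechNerveCx F f).X (n + 1))) fun _ _ => rfl) _ _).trans ?_
  refine Finset.sum_congr rfl fun i _ => ?_
  rw [Preadditive.zsmul_comp]
  rfl

theorem isZero_homology_iff (F : Sheaf J AddCommGrpCat.{u}) {K' K : Sheaf J (Type u)} (f : K' ⟶ K)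
    (q : ℕ) : IsZero ((CohCx.cechNerveCx F f).homology (q + 1)) ↔
      ∀ φ : (freeCx f).X (q + 1) ⟶ F, (freeCx f).d (q + 2) (q + 1) ≫ φ = 0 →
        ∃ χ, φ = (freeCx f).d (q + 1) q ≫ χ := by
  rw [← HomologicalComplex.exactAt_iff_isZero_homology,
    HomologicalComplex.exactAt_iff' _ q (q + 1) (q + 2) (by simp) (by simp), ShortComplex.ab_exact_iff]
  refine ⟨fun h φ hφ => ?_, fun h φ hφ => ?_⟩
  · obtain ⟨χ, hχ⟩ := h φ ((cechNerveCx_d F f (q + 1) φ).trans hφ)
    exact ⟨χ, hχ.symm.trans (cechNerveCx_d F f q χ)⟩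
  · obtain ⟨χ, hχ⟩ := h φ ((cechNerveCx_d F f (q + 1) φ).symm.trans hφ)
    exact ⟨χ, (cechNerveCx_d F f q χ).trans hχ.symm⟩

theorem cechVanish_iff (F : Sheaf J AddCommGrpCat.{u}) :
    CechVanish F ↔ ∀ (K' K : Sheaf J (Type u)) (f : K' ⟶ K), Epi f →
      ∀ q : ℕ, IsZero ((CohCx.cechNerveCx F f).homology (q + 1)) := by
  simp only [isZero_homology_iff]
  rfl

theorem cechVanish_of_totallyAcyclic (F : Sheaf J AddCommGrpCat.{u}) (hF : CohCx.IsTotallyAcyclic F) :
    CechVanish F := by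
  intro K' K f _ q φ hφ
  have : QuasiIso ((AlternatingFaceMapComplex.ε (C := Sheaf J AddCommGrpCat.{u})).app (freeNerve f)) :=
    qi_free_cechNerve J f
  let ε := (AlternatingFaceMapComplex.ε (C := Sheaf J AddCommGrpCat.{u})).app (freeNerve f)
  refine exists_eq_d_comp.{u} (freeCx f) F (exactAt_of_resolution _ ε) (fun n p => hF _ p) (fun p => ?_)
    q φ hφ
  have : Subsingleton (Ext.{u} ((free J).obj K) F (p + 1)) := hF K p
  refine subsingleton_of_forall_eq 0 fun x => ?_
  have h := @Subsingleton.elim _ this ((Ext.mk₀ (opcyclesZeroIso (freeCx f) ε).inv).comp x (zero_add _)) 0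
  have h2 := congrArg (fun y => (Ext.mk₀ (opcyclesZeroIso (freeCx f) ε).hom).comp y (zero_add _)) h
  refine Eq.trans (Eq.trans ?_ h2) (Ext.comp_zero _ _ _ _ _)
  simp

theorem exists_descend {K' K : Sheaf J (Type u)} (f : K' ⟶ K) [Epi f] {G : Sheaf J AddCommGrpCat.{u}}
    (t : (freeCx f).X 0 ⟶ G) (ht : (freeCx f).d 1 0 ≫ t = 0) :
    ∃ s : (free J).obj K ⟶ G, (freeNerve f).hom.app (op (SimplexCategory.mk 0)) ≫ s = t := by
  have : QuasiIso ((AlternatingFaceMapComplex.ε (C := Sheaf J AddCommGrpCat.{u})).app (freeNerve f)) :=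
    qi_free_cechNerve J f
  let ε := (AlternatingFaceMapComplex.ε (C := Sheaf J AddCommGrpCat.{u})).app (freeNerve f)
  let g := (freeNerve f).hom.app (op (SimplexCategory.mk 0))
  have hg : (freeCx f).d 1 0 ≫ g = 0 := by
    have := ε.comm 1 0
    simpa [ε, g] using this.symm
  let e := opcyclesZeroIso (freeCx f) ε
  have he : (freeCx f).pOpcycles 0 ≫ e.hom = g := by
    refine (pOpcycles_opcyclesZeroIso (freeCx f) ε).trans ?_
    simp [ε, g]
  refine ⟨e.inv ≫ (freeCx f).descOpcycles t 1 (by simp) ht, ?_⟩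
  change g ≫ _ = t
  rw [← he]
  exact (Category.assoc _ _ _).trans ((congrArg (_ ≫ ·) (e.hom_inv_id_assoc _)).trans
    (HomologicalComplex.p_descOpcycles _ _ _ _ _))

theorem epi_pullback_fst {X Y Z : Sheaf J (Type u)} (a : X ⟶ Z) (b : Y ⟶ Z) [Epi b] :
    Epi (pullback.fst a b) := by
  rw [← Sheaf.isLocallySurjective_iff_epi' (A := Type u)]
  have hb : Presheaf.IsLocallySurjective J b.hom :=
    (Sheaf.isLocallySurjective_iff_epi' (A := Type u) b).2 ‹_›
  refine ⟨fun {U} x => J.superset_covering ?_ (Presheaf.imageSieve_mem J b.hom (a.hom.app (op U) x))⟩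
  rintro V i ⟨t, ht⟩
  have h := ((IsPullback.of_hasPullback a b).map (sheafToPresheaf J (Type u))).map
    ((evaluation Cᵒᵖ (Type u)).obj (op V))
  obtain ⟨z, hz, -⟩ := Types.exists_of_isPullback h (X.obj.map i.op x) t (by
    change (X.obj.map i.op ≫ a.hom.app (op V)) x = b.hom.app (op V) t
    rw [a.hom.naturality, ht]
    rfl)
  exact ⟨z, hz⟩

theorem exists_lift_of_cechVanish (F : Sheaf J AddCommGrpCat.{u}) (hF : CechVanish F)
    {S : ShortComplex (Sheaf J AddCommGrpCat.{u})} (hS : S.ShortExact) (e : F ≅ S.X₁)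
    {K : Sheaf J (Type u)} (s : (free J).obj K ⟶ S.X₃) :
    ∃ s' : (free J).obj K ⟶ S.X₂, s' ≫ S.g = s := by
  let adj := Sheaf.adjunction J AddCommGrpCat.adj.{u}
  let U := sheafCompose J (CategoryTheory.forget AddCommGrpCat.{u})
  have hg : Epi S.g := hS.epi_g
  have hUg : Epi (U.map S.g) := by
    rw [← Sheaf.isLocallySurjective_iff_epi' (A := Type u)]
    have h1 : Presheaf.IsLocallySurjective J S.g.hom :=
      (Sheaf.isLocallySurjective_iff_epi' (A := AddCommGrpCat.{u}) S.g).2 hg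
    exact (Presheaf.isLocallySurjective_iff_whisker_forget J S.g.hom).1 h1
  let a : K ⟶ U.obj S.X₃ := adj.homEquiv _ _ s
  let f : pullback a (U.map S.g) ⟶ K := pullback.fst a (U.map S.g)
  have : Epi f := epi_pullback_fst a (U.map S.g)
  let t' := (adj.homEquiv _ _).symm (pullback.snd a (U.map S.g))
  have ht' : t' ≫ S.g = (free J).map f ≫ s := by
    apply (adj.homEquiv _ _).injective
    rw [adj.homEquiv_naturality_right, adj.homEquiv_naturality_left, Equiv.apply_symm_apply]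
    exact pullback.condition.symm
  have hb : WidePullback.π (fun _ : Fin (0 + 1) => f) 0 ≫ f = WidePullback.base _ :=
    WidePullback.π_arrow _ _
  let t₀ : (freeCx f).X 0 ⟶ S.X₂ := (free J).map (WidePullback.π (fun _ : Fin (0 + 1) => f) 0) ≫ t'
  let g₀ : (freeCx f).X 0 ⟶ (free J).obj K := (free J).map (WidePullback.base fun _ : Fin (0 + 1) => f)
  have ht₀ : t₀ ≫ S.g = g₀ ≫ s := by
    simp only [t₀, g₀, Category.assoc, ht']
    exact (Category.assoc _ _ _).symm.trans (congrArg (· ≫ s)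
      ((CategoryTheory.Functor.map_comp _ _ _).symm.trans (congrArg (free J).map hb)))
  have hdg : (freeCx f).d 1 0 ≫ g₀ = 0 := by
    have hg₀ : (AlternatingFaceMapComplex.ε.app (freeNerve f)).f 0 = g₀ := by
      rw [AlternatingFaceMapComplex.ε_app_f_zero]
      exact Category.comp_id _
    rw [← hg₀]
    exact ((AlternatingFaceMapComplex.ε.app (freeNerve f)).comm 1 0).symm.trans (by rw [AlternatingFaceMapComplex.ε_app_f_succ]; exact zero_comp)
  have hz : ((freeCx f).d 1 0 ≫ t₀) ≫ S.g = 0 := by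
    rw [Category.assoc, ht₀, ← Category.assoc, hdg, zero_comp]
  have := hS.mono_f
  let φ := hS.exact.lift _ hz
  have hφ : φ ≫ S.f = (freeCx f).d 1 0 ≫ t₀ := hS.exact.lift_f _ hz
  obtain ⟨χ, hχ⟩ := hF _ _ f ‹_› 0 (φ ≫ e.inv) (by
    rw [← cancel_mono (e.hom ≫ S.f)]
    simp only [Category.assoc, Iso.inv_hom_id_assoc, hφ, zero_comp]
    exact (reassoc_of% ((freeCx f).d_comp_d 2 1 0)) t₀ |>.trans zero_comp)
  have hd : (freeCx f).d 1 0 ≫ (t₀ - χ ≫ e.hom ≫ S.f) = 0 := by
    rw [Preadditive.comp_sub, ← reassoc_of% hχ, e.inv_hom_id_assoc, hφ, sub_self]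
  obtain ⟨s', hs'⟩ := exists_descend f _ hd
  refine ⟨s', ?_⟩
  have hs₀ : (freeNerve f).hom.app (op (SimplexCategory.mk 0)) = g₀ := Category.comp_id _
  rw [hs₀] at hs'
  have hsplit : IsSplitEpi (WidePullback.π (fun _ : Fin (0 + 1) => f) 0) :=
    ⟨⟨⟨WidePullback.lift f (fun _ => 𝟙 _) (fun _ => Category.id_comp _), WidePullback.lift_π ..⟩⟩⟩
  have : Epi g₀ := by
    change Epi ((free J).map _)
    rw [← hb]
    have := Functor.preservesEpimorphisms_of_adjunction adj
    exact @Functor.map_epi _ _ _ _ (free J) this _ _ _ (@epi_comp _ _ _ _ _ _ (@IsSplitEpi.epi _ _ _ _ _ hsplit) f ‹_›)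
  refine (cancel_epi g₀).1 ((Category.assoc _ _ _).symm.trans ((congrArg (· ≫ S.g) hs').trans ?_))
  rw [Preadditive.sub_comp, ht₀]
  simp

theorem subsingleton_ext_one (F : Sheaf J AddCommGrpCat.{u}) (hF : CechVanish F) (K : Sheaf J (Type u)) :
    Subsingleton (Ext.{u} ((free J).obj K) F 1) := by
  have := GrothLib.SheafCoh.enoughInjectivesAb (J := J)
  let S : ShortComplex (Sheaf J AddCommGrpCat.{u}) :=
    ShortComplex.mk (Injective.ι F) (cokernel.π (Injective.ι F)) (cokernel.condition _)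
  have hS : S.ShortExact :=
    { exact := ShortComplex.exact_of_g_is_cokernel _ (cokernelIsCokernel _) }
  refine subsingleton_of_forall_eq 0 fun x => ?_
  obtain ⟨y, rfl⟩ := Ext.covariant_sequence_exact₁ _ hS x (Ext.eq_zero_of_injective _) (n₀ := 0) (by omega)
  obtain ⟨s, rfl⟩ := (Ext.mk₀_bijective _ _).2 y
  obtain ⟨s', rfl⟩ := exists_lift_of_cechVanish F hF hS (Iso.refl _) s
  rw [← Ext.mk₀_comp_mk₀, Ext.comp_assoc_of_second_deg_zero, hS.comp_extClass, Ext.comp_zero]

theorem cechVanish_cokernel (F : Sheaf J AddCommGrpCat.{u}) (hF : CechVanish F)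
    {S : ShortComplex (Sheaf J AddCommGrpCat.{u})} (hS : S.ShortExact) (e : F ≅ S.X₁)
    (hI : CechVanish S.X₂) : CechVanish S.X₃ := by
  intro K' K f hf q φ hφ
  obtain ⟨y, hy⟩ : ∃ y : (freeCx f).X (q + 1) ⟶ S.X₂, y ≫ S.g = φ :=
    exists_lift_of_cechVanish F hF hS e φ
  have hz : ((freeCx f).d (q + 2) (q + 1) ≫ y) ≫ S.g = 0 := by rw [Category.assoc, hy, hφ]
  have := hS.mono_f
  let w := hS.exact.lift _ hz
  have hw : w ≫ S.f = (freeCx f).d (q + 2) (q + 1) ≫ y := hS.exact.lift_f _ hz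
  obtain ⟨v, hv⟩ := hF K' K f hf (q + 1) (w ≫ e.inv) (by
    rw [← cancel_mono (e.hom ≫ S.f)]
    simp only [Category.assoc, Iso.inv_hom_id_assoc, hw, zero_comp]
    exact (reassoc_of% ((freeCx f).d_comp_d (q + 1 + 2) (q + 1 + 1) (q + 1))) y |>.trans zero_comp)
  obtain ⟨χ, hχ⟩ := hI K' K f hf q (y - v ≫ e.hom ≫ S.f) (by
    rw [Preadditive.comp_sub, ← reassoc_of% hv, e.inv_hom_id_assoc, hw, sub_self])
  refine ⟨χ ≫ S.g, ?_⟩
  rw [← Category.assoc, ← hχ, Preadditive.sub_comp, hy]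
  simp

theorem isTotallyAcyclic_of_cechVanish (F : Sheaf J AddCommGrpCat.{u}) (hF : CechVanish F) :
    CohCx.IsTotallyAcyclic F := by
  intro K p
  have := GrothLib.SheafCoh.enoughInjectivesAb (J := J)
  induction p generalizing F with
  | zero => exact subsingleton_ext_one F hF K
  | succ p ih =>
    let S : ShortComplex (Sheaf J AddCommGrpCat.{u}) :=
      ShortComplex.mk (Injective.ι F) (cokernel.π (Injective.ι F)) (cokernel.condition _)
    have hS : S.ShortExact :=
      { exact := ShortComplex.exact_of_g_is_cokernel _ (cokernelIsCokernel _) }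
    have hI : CechVanish S.X₂ :=
      cechVanish_of_totallyAcyclic _ fun _ n => Ext.subsingleton_of_injective _ _ n
    refine subsingleton_of_forall_eq 0 fun x => ?_
    obtain ⟨y, rfl⟩ := Ext.covariant_sequence_exact₁ _ hS x (Ext.eq_zero_of_injective _) (n₀ := p + 1) rfl
    have := ih S.X₃ (cechVanish_cokernel F hF hS (Iso.refl _) hI)
    rw [Subsingleton.elim y 0, Ext.zero_comp]

theorem surjective_HK0_of_totallyAcyclic (F : Sheaf J AddCommGrpCat.{u}) (hF : CohCx.IsTotallyAcyclic F)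
    {Y X : Sheaf J (Type u)} (ι : Y ⟶ X) [Mono ι] :
    Function.Surjective ((CohCx.HK0Functor J F).map ι.op) := by
  intro φ
  have : Mono ((free J).map ι) := by
    have : Mono ι.hom := inferInstanceAs (Mono ((sheafToPresheaf J (Type u)).map ι))
    have hm : Mono (Functor.whiskerRight ι.hom AddCommGrpCat.free.{u}) := by
      have : ∀ U, Mono ((Functor.whiskerRight ι.hom AddCommGrpCat.free.{u}).app U) := fun U =>
        inferInstanceAs (Mono (AddCommGrpCat.free.{u}.map (ι.hom.app U)))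
      exact NatTrans.mono_of_mono_app _
    exact inferInstanceAs (Mono ((presheafToSheaf J AddCommGrpCat.{u}).map
      (Functor.whiskerRight ι.hom AddCommGrpCat.free.{u})))
  let L := free J
  have := (Sheaf.adjunction J AddCommGrpCat.adj.{u}).leftAdjoint_preservesColimits
  let S : ShortComplex (Sheaf J AddCommGrpCat.{u}) :=
    ShortComplex.mk (L.map ι) (cokernel.π (L.map ι)) (cokernel.condition _)
  have hS : S.ShortExact := { exact := ShortComplex.exact_of_g_is_cokernel _ (cokernelIsCokernel _) }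
  have hsq := (IsPushout.of_hasPushout ι ι).map L
  let p : L.obj (pushout ι ι) ⟶ cokernel (L.map ι) := hsq.desc 0 (cokernel.π _) (by simp)
  let j : cokernel (L.map ι) ⟶ L.obj (pushout ι ι) :=
    cokernel.desc _ (L.map (pushout.inr ι ι) - L.map (pushout.inl ι ι)) (by
      rw [Preadditive.comp_sub, ← hsq.w, sub_self])
  have hjp : j ≫ p = 𝟙 _ := by
    rw [← cancel_epi (cokernel.π (L.map ι))]
    simp [j, p]
  have hQ : Subsingleton (Ext.{u} S.X₃ F 1) := by
    refine subsingleton_of_forall_eq 0 fun x => ?_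
    have h : Subsingleton (Ext.{u} (L.obj (pushout ι ι)) F 1) := hF (pushout ι ι) 0
    have h2 := congrArg (fun y => (Ext.mk₀ j).comp y (zero_add _))
      (Subsingleton.elim ((Ext.mk₀ p).comp x (zero_add _)) 0)
    refine Eq.trans (Eq.trans ?_ h2) (Ext.comp_zero _ _ _ _ _)
    simp [Ext.mk₀_comp_mk₀_assoc, hjp]
  obtain ⟨χ, hχ⟩ := exists_extend_of_shortExact hS F hQ φ
  exact ⟨χ, hχ⟩

end Sheaf

end GrothLib.CechFree
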