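import Mathlib.AlgebraicTopology.ExtraDegeneracy
import Mathlib.AlgebraicTopology.CechNerve
import Mathlib.AlgebraicTopology.AlternatingFaceMapComplex
import Mathlib.Algebra.Homology.Functor
import Mathlib.Algebra.Homology.QuasiIso
import Mathlib.Algebra.Homology.Additive
import Mathlib.CategoryTheory.Sites.Adjunction
import Mathlib.CategoryTheory.Sites.EpiMono
import Mathlib.CategoryTheory.Sites.Equivalence
import Mathlib.CategoryTheory.Subfunctor.Image
import Mathlib.Algebra.Category.Grp.Adjunctions
import Mathlib.Algebra.Category.Grp.Abelian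
import Mathlib.Algebra.Category.Grp.Limits
import Mathlib.Algebra.Category.Grp.Colimits
import Mathlib.Algebra.Category.Grp.FilteredColimits
import Mathlib.CategoryTheory.Abelian.FunctorCategory
import Mathlib.CategoryTheory.Sites.Abelian
import Mathlib.CategoryTheory.Sites.Limits
import Groth.Prelude.Def_CohCx

/-! # The free resolution attached to the Čech nerve of an epimorphism of sheaves of sets -/

universe w v' u' v u

open CategoryTheory CategoryTheory.Limits Opposite AlgebraicTopology

namespace GrothLib.CechFree

/-- The augmentation of the alternating face map complex is a quasi-isomorphism. -/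
def QI {A : Type u} [Category.{v} A] [Abelian A] (X : SimplicialObject.Augmented A) : Prop :=
  QuasiIso ((AlternatingFaceMapComplex.ε (C := A)).app X)

theorem qi_of_iso {A : Type u} [Category.{v} A] [Abelian A] {X Y : SimplicialObject.Augmented A}
    (e : X ≅ Y) (h : QI X) : QI Y := by
  have hX : QuasiIso ((AlternatingFaceMapComplex.ε (C := A)).app X) := h
  have hn := (AlternatingFaceMapComplex.ε (C := A)).naturality e.hom
  have : QuasiIso ((SimplicialObject.Augmented.drop ⋙ alternatingFaceMapComplex A).map e.hom ≫
      (AlternatingFaceMapComplex.ε (C := A)).app Y) := by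
    rw [hn]; infer_instance
  exact quasiIso_of_comp_left
    ((SimplicialObject.Augmented.drop ⋙ alternatingFaceMapComplex A).map e.hom) _

theorem qi_of_extraDegeneracy {A : Type u} [Category.{v} A] [Abelian A]
    {X : SimplicialObject.Augmented A} (ed : SimplicialObject.Augmented.ExtraDegeneracy X) : QI X :=
  inferInstanceAs (QuasiIso ed.homotopyEquiv.hom)

section Whisker

variable {A : Type u} [Category.{v} A] [Abelian A] {B : Type u'} [Category.{v'} B] [Abelian B]
  (F : A ⥤ B) [F.Additive]

theorem qi_whiskering_iff (X : SimplicialObject.Augmented A) :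
    QI ((SimplicialObject.Augmented.whiskeringObj A B F).obj X) ↔
      QuasiIso ((F.mapHomologicalComplex _).map ((AlternatingFaceMapComplex.ε (C := A)).app X)) := by
  have e : Arrow.mk ((F.mapHomologicalComplex _).map ((AlternatingFaceMapComplex.ε (C := A)).app X)) ≅
      Arrow.mk ((AlternatingFaceMapComplex.ε (C := B)).app
        ((SimplicialObject.Augmented.whiskeringObj A B F).obj X)) := by
    refine Arrow.isoMk (eqToIso (Functor.congr_obj (map_alternatingFaceMapComplex F) X.left))
      ((HomologicalComplex.singleMapHomologicalComplex F _ 0).app X.right) ?_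
    apply HomologicalComplex.to_single_hom_ext
    dsimp
    rw [HomologicalComplex.singleMapHomologicalComplex_hom_app_self, HomologicalComplex.eqToHom_f]
    simp [ChainComplex.single₀ObjXSelf]
    exact (Category.id_comp _).trans (Category.comp_id _).symm
  exact ((MorphismProperty.arrow_mk_iso_iff (HomologicalComplex.quasiIso B _) e)).symm

end Whisker

theorem qi_of_evaluation {T : Type u'} [Category.{v'} T] {A : Type u} [Category.{v} A] [Abelian A]
    (X : SimplicialObject.Augmented (T ⥤ A))
    (h : ∀ t, QI ((SimplicialObject.Augmented.whiskeringObj _ _ ((evaluation T A).obj t)).obj X)) :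
    QI X :=
  (HomologicalComplex.quasiIso_iff_evaluation _).2 fun t => (qi_whiskering_iff _ X).1 (h t)

theorem qi_map {A : Type u} [Category.{v} A] [Abelian A] {B : Type u'} [Category.{v'} B] [Abelian B]
    (F : A ⥤ B) [F.Additive] [PreservesFiniteLimits F] [PreservesFiniteColimits F]
    {X : SimplicialObject.Augmented A} (h : QI X) :
    QI ((SimplicialObject.Augmented.whiskeringObj A B F).obj X) := by
  have hX : QuasiIso ((AlternatingFaceMapComplex.ε (C := A)).app X) := h
  exact (qi_whiskering_iff F X).2 inferInstance

section Nerve

variable {C : Type u} [Category.{v} C] {D : Type u'} [Category.{v'} D] (G : C ⥤ D) (f : Arrow C)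
  [∀ n : ℕ, HasWidePullback f.right (fun _ : Fin (n + 1) => f.left) fun _ => f.hom]
  [∀ n : ℕ, HasWidePullback (G.mapArrow.obj f).right (fun _ : Fin (n + 1) => (G.mapArrow.obj f).left)
    fun _ => (G.mapArrow.obj f).hom]
  [∀ n : ℕ, PreservesLimit (WidePullbackShape.wideCospan f.right (fun _ : Fin (n + 1) => f.left)
    fun _ => f.hom) G]

/-- comparison of the image of a Čech nerve with the Čech nerve of the image -/
noncomputable def nerveComp (n : ℕ) :
    G.obj (widePullback f.right (fun _ : Fin (n + 1) => f.left) fun _ => f.hom) ≅
      widePullback (G.mapArrow.obj f).right (fun _ : Fin (n + 1) => (G.mapArrow.obj f).left)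
        fun _ => (G.mapArrow.obj f).hom where
  hom := WidePullback.lift (G.map (WidePullback.base _)) (fun j => G.map (WidePullback.π _ j))
    fun j => by
      change G.map _ ≫ G.map f.hom = _
      rw [← G.map_comp, WidePullback.π_arrow]
  inv := (isLimitOfPreserves G (limit.isLimit _)).lift
    { pt := widePullback (G.mapArrow.obj f).right (fun _ : Fin (n + 1) => (G.mapArrow.obj f).left)
        fun _ => (G.mapArrow.obj f).hom
      π :=
        { app := fun
            | none => WidePullback.base (fun _ : Fin (n + 1) => (G.mapArrow.obj f).hom)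
            | some j => WidePullback.π (fun _ : Fin (n + 1) => (G.mapArrow.obj f).hom) j
          naturality := fun i j g => by
            cases g with
            | id =>
              exact (Category.id_comp _).trans
                ((Category.comp_id _).symm.trans (congrArg (_ ≫ ·) (CategoryTheory.Functor.map_id _ _).symm))
            | term j =>
              exact (Category.id_comp _).trans
                (WidePullback.π_arrow (fun _ : Fin (n + 1) => (G.mapArrow.obj f).hom) j).symm } }
  hom_inv_id := by
    refine (isLimitOfPreserves G (limit.isLimit _)).hom_ext fun o => ?_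
    rw [Category.assoc, IsLimit.fac, Category.id_comp]
    cases o with
    | none => exact WidePullback.lift_base (fun _ : Fin (n + 1) => (G.mapArrow.obj f).hom) _ _ _
    | some j => exact WidePullback.lift_π (fun _ : Fin (n + 1) => (G.mapArrow.obj f).hom) _ _ _ j
  inv_hom_id := by
    apply WidePullback.hom_ext
    · intro j
      exact (Category.assoc _ _ _).trans ((congrArg (_ ≫ ·)
        (WidePullback.lift_π (fun _ : Fin (n + 1) => (G.mapArrow.obj f).hom) _ _ _ j)).trans
        (((isLimitOfPreserves G (limit.isLimit _)).fac _ (show WidePullbackShape (Fin (n + 1)) from some j)).trans (Category.id_comp _).symm))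
    · exact (Category.assoc _ _ _).trans ((congrArg (_ ≫ ·)
        (WidePullback.lift_base (fun _ : Fin (n + 1) => (G.mapArrow.obj f).hom) _ _ _)).trans
        (((isLimitOfPreserves G (limit.isLimit _)).fac _ (show WidePullbackShape (Fin (n + 1)) from none)).trans (Category.id_comp _).symm))

@[reassoc]
theorem nerveComp_π (n : ℕ) (j : Fin (n + 1)) :
    (nerveComp G f n).hom ≫ WidePullback.π (fun _ => (G.mapArrow.obj f).hom) j =
      G.map (WidePullback.π (fun _ => f.hom) j) :=
  WidePullback.lift_π ..

@[reassoc]
theorem nerveComp_base (n : ℕ) :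
    (nerveComp G f n).hom ≫ WidePullback.base (fun _ => (G.mapArrow.obj f).hom) =
      G.map (WidePullback.base (fun _ => f.hom)) :=
  WidePullback.lift_base ..

/-- the image of the augmented Čech nerve -/
noncomputable def augNerveComp :
    (SimplicialObject.Augmented.whiskeringObj C D G).obj f.augmentedCechNerve ≅
      (G.mapArrow.obj f).augmentedCechNerve :=
  Comma.isoMk (NatIso.ofComponents (fun n => nerveComp G f n.unop.len) fun {n m} g => by
    apply WidePullback.hom_ext
    · intro j
      refine (Category.assoc _ _ _).trans ?_
      refine (congrArg (_ ≫ ·) (nerveComp_π G f _ j)).trans ?_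
      refine (G.map_comp _ _).symm.trans ?_
      refine Eq.trans (congrArg G.map (WidePullback.lift_π (fun _ : Fin (m.unop.len + 1) => f.hom) _ _ _ j)) ?_
      refine Eq.trans (nerveComp_π G f _ _).symm ?_
      refine (congrArg (_ ≫ ·) (WidePullback.lift_π (fun _ : Fin (m.unop.len + 1) => (G.mapArrow.obj f).hom)
        (WidePullback.base _) (fun i => WidePullback.π (fun _ => (G.mapArrow.obj f).hom)
          (g.unop.toOrderHom i)) (fun i => WidePullback.π_arrow _ _) j).symm).trans ?_
      exact (Category.assoc _ _ _).symm
    · refine (Category.assoc _ _ _).trans ?_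
      refine (congrArg (_ ≫ ·) (nerveComp_base G f _)).trans ?_
      refine (G.map_comp _ _).symm.trans ?_
      refine Eq.trans (congrArg G.map (WidePullback.lift_base (fun _ : Fin (m.unop.len + 1) => f.hom) _ _ _)) ?_
      refine Eq.trans (nerveComp_base G f _).symm ?_
      refine (congrArg (_ ≫ ·) (WidePullback.lift_base (fun _ : Fin (m.unop.len + 1) => (G.mapArrow.obj f).hom)
        (WidePullback.base _) (fun i => WidePullback.π (fun _ => (G.mapArrow.obj f).hom)
          (g.unop.toOrderHom i)) (fun i => WidePullback.π_arrow _ _)).symm).trans ?_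
      exact (Category.assoc _ _ _).symm) (Iso.refl _) (by
    ext n
    exact ((nerveComp_base G f n.unop.len).trans (Category.comp_id _).symm).trans
      (Category.comp_id _).symm)

end Nerve

section Mono

variable {C : Type u} [Category.{v} C] [HasFiniteWidePullbacks C] {X I Y : C} (p : X ⟶ I) (m : I ⟶ Y)

/-- composing with a monomorphism does not change the nerve -/
noncomputable def nerveMonoObj [Mono m] (n : ℕ) :
    widePullback I (fun _ : Fin (n + 1) => X) (fun _ => p) ≅
      widePullback Y (fun _ : Fin (n + 1) => X) (fun _ => p ≫ m) where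
  hom := WidePullback.lift (WidePullback.base (fun _ => p) ≫ m) (fun j => WidePullback.π (fun _ => p) j)
    fun j => by rw [← WidePullback.π_arrow (fun _ : Fin (n + 1) => p) j, Category.assoc]
  inv := WidePullback.lift (WidePullback.π (fun _ : Fin (n + 1) => p ≫ m) 0 ≫ p)
    (fun j => WidePullback.π (fun _ : Fin (n + 1) => p ≫ m) j)
    fun j => by
      rw [← cancel_mono m, Category.assoc, Category.assoc]
      exact (WidePullback.π_arrow (fun _ => p ≫ m) j).trans (WidePullback.π_arrow (fun _ => p ≫ m) 0).symm
  hom_inv_id := by
    apply WidePullback.hom_ext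
    · intro j
      rw [Category.assoc, WidePullback.lift_π (fun _ : Fin (n + 1) => p),
        WidePullback.lift_π (fun _ : Fin (n + 1) => p ≫ m), Category.id_comp]
    · rw [Category.assoc, WidePullback.lift_base (fun _ : Fin (n + 1) => p), ← Category.assoc,
        WidePullback.lift_π (fun _ : Fin (n + 1) => p ≫ m), Category.id_comp, WidePullback.π_arrow]
  inv_hom_id := by
    apply WidePullback.hom_ext
    · intro j
      rw [Category.assoc, WidePullback.lift_π (fun _ : Fin (n + 1) => p ≫ m),
        WidePullback.lift_π (fun _ : Fin (n + 1) => p), Category.id_comp]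
    · rw [Category.assoc, WidePullback.lift_base (fun _ : Fin (n + 1) => p ≫ m), ← Category.assoc,
        WidePullback.lift_base (fun _ : Fin (n + 1) => p), Category.id_comp, Category.assoc]
      exact WidePullback.π_arrow (fun _ : Fin (n + 1) => p ≫ m) 0

theorem nerveMono_app [Mono m] (n : SimplexCategoryᵒᵖ) :
    (Arrow.mapCechNerve (Arrow.homMk (f := Arrow.mk p) (g := Arrow.mk (p ≫ m)) (𝟙 X) m
      (by simp))).app n = (nerveMonoObj p m n.unop.len).hom := by
  apply WidePullback.hom_ext
  · intro j
    exact (WidePullback.lift_π ..).trans ((Category.comp_id _).trans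
      (WidePullback.lift_π (fun _ : Fin (n.unop.len + 1) => p ≫ m) _ _ _ j).symm)
  · exact (WidePullback.lift_base ..).trans
      (WidePullback.lift_base (fun _ : Fin (n.unop.len + 1) => p ≫ m) _ _ _).symm

/-- composing with a monomorphism does not change the nerve -/
noncomputable def nerveMono [Mono m] : (Arrow.mk p).cechNerve ≅ (Arrow.mk (p ≫ m)).cechNerve :=
  NatIso.ofComponents (fun n => nerveMonoObj p m n.unop.len) fun {a b} g => by
    rw [← nerveMono_app, ← nerveMono_app]
    exact (Arrow.mapCechNerve _).naturality g

/-- composing with a monomorphism that becomes invertible -/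
noncomputable def augNerveMono [Mono m] {D : Type u'} [Category.{v'} D] (L : C ⥤ D) [IsIso (L.map m)] :
    (SimplicialObject.Augmented.whiskeringObj C D L).obj (Arrow.mk p).augmentedCechNerve ≅
      (SimplicialObject.Augmented.whiskeringObj C D L).obj (Arrow.mk (p ≫ m)).augmentedCechNerve :=
  Comma.isoMk (Functor.isoWhiskerRight (nerveMono p m) L) (@asIso _ _ _ _ (L.map m) ‹_›) (by
    ext n
    change L.map (nerveMonoObj p m n.unop.len).hom ≫ L.map (WidePullback.base fun _ : Fin (n.unop.len + 1) => p ≫ m) ≫
      𝟙 _ = (L.map (WidePullback.base fun _ : Fin (n.unop.len + 1) => p) ≫ 𝟙 _) ≫ L.map m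
    rw [Category.comp_id, Category.comp_id, ← L.map_comp, ← L.map_comp]
    exact congrArg L.map (WidePullback.lift_base (fun _ : Fin (n.unop.len + 1) => p ≫ m) _ _ _))

end Mono

theorem qi_free_cechNerve {C : Type u} [SmallCategory C] (J : GrothendieckTopology C)
    {K' K : Sheaf J (Type u)} (f : K' ⟶ K) [Epi f] :
    QI (((SimplicialObject.Augmented.whiskering _ _).obj
      (Sheaf.composeAndSheafify J AddCommGrpCat.free.{u})).obj (Arrow.mk f).augmentedCechNerve) := by
  let p := Subfunctor.toRange f.hom
  let m := (Subfunctor.range f.hom).ι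
  let W := (Functor.whiskeringRight Cᵒᵖ (Type u) AddCommGrpCat.{u}).obj AddCommGrpCat.free.{u}
  let a := presheafToSheaf J AddCommGrpCat.{u}
  have hloc : Presheaf.IsLocallySurjective J f.hom :=
    (Sheaf.isLocallySurjective_iff_epi' (A := Type u) f).2 ‹_›
  have : Presheaf.IsLocallySurjective J (p ≫ m) := hloc
  have : Presheaf.IsLocallySurjective J m := Presheaf.isLocallySurjective_of_isLocallySurjective J p m
  have : Presheaf.IsLocallyInjective J m := Presheaf.isLocallyInjective_of_injective J m
    fun _ => Subtype.val_injective
  have := Sheaf.preservesSheafification_of_adjunction (J := J) AddCommGrpCat.adj.{u}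
  have : IsIso ((W ⋙ a).map m) := by
    have h := GrothendieckTopology.W_of_preservesSheafification (J := J) AddCommGrpCat.free.{u} m
      (J.W_of_isLocallyBijective m)
    rw [J.W_iff] at h
    exact h
  -- the nerve of `p` gives a quasi-isomorphism of presheaves
  have h1 : QI ((SimplicialObject.Augmented.whiskeringObj _ _ W).obj (Arrow.mk p).augmentedCechNerve) := by
    refine qi_of_evaluation _ fun U => ?_
    let ev := (evaluation Cᵒᵖ (Type u)).obj U
    have hsurj : Function.Surjective (p.app U) := fun x => ⟨x.2.choose, Subtype.ext x.2.choose_spec⟩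
    have : Epi (ev.mapArrow.obj (Arrow.mk p)).hom := (epi_iff_surjective _).2 hsurj
    have : IsSplitEpi (ev.mapArrow.obj (Arrow.mk p)).hom := isSplitEpi_of_epi _
    obtain ⟨S⟩ := IsSplitEpi.exists_splitEpi (f := (ev.mapArrow.obj (Arrow.mk p)).hom)
    let ed := SimplicialObject.Augmented.ExtraDegeneracy.ofIso (augNerveComp ev (Arrow.mk p)).symm
      (Arrow.AugmentedCechNerve.extraDegeneracy (ev.mapArrow.obj (Arrow.mk p)) S)
    exact qi_of_extraDegeneracy (ed.map AddCommGrpCat.free.{u})
  have h2 := qi_map a h1
  have h3 := qi_of_iso (augNerveMono p m (W ⋙ a)) h2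
  let i := sheafToPresheaf J (Type u)
  have h4 := qi_of_iso ((SimplicialObject.Augmented.whiskeringObj _ _ (W ⋙ a)).mapIso
    (augNerveComp i (Arrow.mk f)).symm) h3
  exact h4

end GrothLib.CechFree
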